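import Groth.Agent.SGA3x.K207.MainRed
import Groth.Agent.SGA3x.K18.SubtorLift
import Groth.Agent.SGA3.K207.SubTorMain

/-!
# Subtori with prescribed torsion from subtori of the fibres, Noetherian affine bases
-/

set_option autoImplicit false
universe u
open CategoryTheory MonoidalCategory CartesianMonoidalCategory MonObj GrpObj AlgebraicGeometry Limits

namespace K207.Main

open Groth.Agent Groth.Agent.Sga3B Groth.Agent.Sga3B.RedIso K18.TorSpec K18.TorsFam K18.SubtorLift K13.MTLift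

variable {A : Type u} [CommRing A] [IsNoetherianRing A] {q : ℕ}

theorem exists_red [IsReduced A] (hq : 1 < q) (hqu : IsUnit (q : A)) {G : Over (Spec (CommRingCat.of A))} [GrpObj G]
    [QuasiCompact G.hom] [LocallyOfFiniteType G.hom] (M : ℕ → Over (Spec (CommRingCat.of A)))
    (grp : ∀ k, GrpObj (M k)) (m : ∀ k, M k ⟶ G) (hm : ∀ k, IsMonHom (m k) ∧ Mono (m k) ∧ SGA3x.IsMultTypeFT (M k))
    (hcoh : ∀ j k : ℕ, j ≤ k → ∃ f : M j ⟶ M k, f ≫ m k = m j ∧
      AlgGrp.IsKernel f ((𝟙 (M k) : M k ⟶ M k) ^ (q ^ j)))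
    (h : ∀ s : ↥(Spec (CommRingCat.of A)), Has q m ((Spec (CommRingCat.of A)).fromSpecResidueField s)) :
    ∃ (T : Over (Spec (CommRingCat.of A))) (_ : GrpObj T) (j : T ⟶ G), IsMonHom j ∧ Mono j ∧ Red.IsTorus T ∧
      ∀ k, ∃ g : M k ⟶ T, g ≫ j = m k ∧ AlgGrp.IsKernel g ((𝟙 T : T ⟶ T) ^ (q ^ k)) :=
  K207.SubTor.exists_of_etale_local hq (fun k => (hm k).2.1) fun x => by
    obtain ⟨V, v, h1, h2, h3⟩ := K207.MainRed.exists_local hq hqu M grp m hm hcoh h x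
    exact ⟨V, v, h1, h2, h3⟩

lemma isKernel_of_isTor {S : Scheme.{u}} {n : ℕ} {L H : Over S} [GrpObj H] {t : L ⟶ H} (h : IsTor n t) :
    AlgGrp.IsKernel t ((𝟙 H : H ⟶ H) ^ n) := by
  have := h.mono
  rw [K207.SubTor.isKernel_pow_iff]
  refine ⟨(h.pts _ _).1 ⟨𝟙 _, Category.id_comp _⟩, fun X x hx => ?_⟩
  obtain ⟨y, hy⟩ := (h.pts X x).2 hx
  exact ⟨y, hy, fun z hz => by rw [← cancel_mono t, hz, hy]⟩

/-- **Subtori of a group scheme from coherent families of torsion subgroups which are fibrewise the torsion of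
subtori.** -/
theorem exists_torus (hq : 1 < q) (hqu : IsUnit (q : A)) {G : Over (Spec (CommRingCat.of A))} [GrpObj G]
    [QuasiCompact G.hom] [LocallyOfFiniteType G.hom] (M : ℕ → Over (Spec (CommRingCat.of A)))
    (grp : ∀ k, GrpObj (M k)) (m : ∀ k, M k ⟶ G) (hm : ∀ k, IsMonHom (m k) ∧ Mono (m k) ∧ SGA3x.IsMultTypeFT (M k))
    (hcoh : ∀ j k : ℕ, j ≤ k → ∃ f : M j ⟶ M k, f ≫ m k = m j ∧
      AlgGrp.IsKernel f ((𝟙 (M k) : M k ⟶ M k) ^ (q ^ j)))
    (h : ∀ s : ↥(Spec (CommRingCat.of A)), Has q m ((Spec (CommRingCat.of A)).fromSpecResidueField s)) :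
    ∃ (T : Over (Spec (CommRingCat.of A))) (_ : GrpObj T) (j : T ⟶ G), IsMonHom j ∧ Mono j ∧ Red.IsTorus T ∧
      ∀ k, ∃ g : M k ⟶ T, g ≫ j = m k ∧ AlgGrp.IsKernel g ((𝟙 T : T ⟶ T) ^ (q ^ k)) := by
  let J : Ideal A := nilradical A
  have hJ : IsNilpotent J := IsNoetherianRing.isNilpotent_nilradical A
  have hred : IsReduced (A ⧸ J) := (Ideal.isRadical_iff_quotient_reduced J).1 (Ideal.radical_isRadical ⊥)
  have i1 := fun k => (hm k).1
  have i2 := fun k => (hm k).2.1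
  have c2 : LocallyOfFiniteType (Red.bc (cl J) G).hom := inferInstanceAs (LocallyOfFiniteType (pullback.snd G.hom _))
  have c3 : QuasiCompact (Red.bc (cl J) G).hom := inferInstanceAs (QuasiCompact (pullback.snd G.hom _))
  obtain ⟨T₀, _, j₀, h1, h2, h3, h4⟩ := exists_red (A := A ⧸ J) hq (isUnit_of_hom hqu (cl J)) (G := Red.bc (cl J) G)
    (fun k => Red.bc (cl J) (M k)) inferInstance (fun k => (Over.pullback (cl J)).map (m k))
    (fun k => ⟨inferInstance, inferInstance, K18.MTDesc.isMultTypeFT_bc (cl J) (hm k).2.2⟩)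
    (fun j k hjk => by
      obtain ⟨f, hf, hf'⟩ := hcoh j k hjk
      exact ⟨(Over.pullback (cl J)).map f, by rw [← Functor.map_comp, hf], K207.SubTor.torsion_bc (cl J) hf'⟩)
    (fun s => Has.square ((cl J).SpecMap_residueFieldMap_fromSpecResidueField s).symm (h (cl J s)))
  obtain ⟨T, iT, j, g1, g2, g3, -, g4⟩ := exists_subtorus hJ j₀ q hq M m
    (fun k => ⟨(hm k).1, (hm k).2.1, isMT_of_FT (hm k).2.2⟩) h3
    (fun j k hjk => by
      obtain ⟨f, hf, -⟩ := hcoh j k hjk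
      exact ⟨f, hf⟩)
    (fun k => by
      obtain ⟨g, hg, hg'⟩ := h4 k
      exact ⟨g, hg, isTor_of_isKernel g hg'⟩)
  exact ⟨T, iT, j, g1, g2, g3, fun k => by
    obtain ⟨g, hg, hg'⟩ := g4 k
    exact ⟨g, hg, isKernel_of_isTor hg'⟩⟩

end K207.Main
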