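import Groth.Agent.SGA3x.K207.Main

/-!
# Subtori with prescribed torsion from one fibre, connected Noetherian affine bases
-/

set_option autoImplicit false
universe u
open CategoryTheory MonoidalCategory CartesianMonoidalCategory MonObj GrpObj AlgebraicGeometry Limits TopologicalSpace

namespace K207.Connect

open Groth.Agent Groth.Agent.Sga3B K18.TorSpec

/-- In a Noetherian sober space a set stable under specialization and generization is closed. -/
theorem isClosed_of_stable {X : Type*} [TopologicalSpace X] [NoetherianSpace X] [QuasiSober X] (P : X → Prop)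
    (hs : ∀ t s : X, t ⤳ s → P t → P s) (hg : ∀ t s : X, t ⤳ s → P s → P t) : IsClosed {x | P x} := by
  have h1 : {x | P x} = ⋃₀ {Z | Z ∈ irreducibleComponents X ∧ (Z ∩ {x | P x}).Nonempty} := by
    ext x
    constructor
    · intro hx
      exact ⟨irreducibleComponent x, ⟨irreducibleComponent_mem_irreducibleComponents x, x, mem_irreducibleComponent, hx⟩,
        mem_irreducibleComponent⟩
    · rintro ⟨Z, ⟨hZ, z, hzZ, hz⟩, hx⟩
      obtain ⟨g, hη⟩ := QuasiSober.sober hZ.1 (isClosed_of_mem_irreducibleComponents Z hZ)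
      have h2 : ∀ y ∈ Z, g ⤳ y := fun y hy => by
        rw [specializes_iff_mem_closure, hη.def]
        exact hy
      exact hs _ _ (h2 x hx) (hg _ _ (h2 z hzZ) hz)
  rw [h1]
  rw [Set.sUnion_eq_biUnion]
  refine ((NoetherianSpace.finite_irreducibleComponents (α := X)).subset fun Z hZ => hZ.1).isClosed_biUnion ?_
  rintro Z ⟨hZ, -⟩
  exact isClosed_of_mem_irreducibleComponents Z hZ

theorem all_of_one {X : Type*} [TopologicalSpace X] [NoetherianSpace X] [QuasiSober X] [PreconnectedSpace X]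
    (P : X → Prop) (hs : ∀ t s : X, t ⤳ s → P t → P s) (hg : ∀ t s : X, t ⤳ s → P s → P t) {x : X} (hx : P x) (y : X) :
    P y := by
  have h1 := isClosed_of_stable P hs hg
  have h2 := isClosed_of_stable (fun x => ¬ P x) (fun t s h ht hs' => ht (hg t s h hs'))
    (fun t s h hs' ht => hs' (hs t s h ht))
  have h3 : IsClopen {x | P x} := ⟨h1, isClosed_compl_iff.1 h2⟩
  have h4 := h3.eq_univ ⟨x, hx⟩
  exact Set.eq_univ_iff_forall.1 h4 y

/-- **Existence and uniqueness of the subtorus**, the generization step being a hypothesis. -/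
theorem main {A : Type u} [CommRing A] [IsNoetherianRing A] [ConnectedSpace ↥(Spec (CommRingCat.of A))]
    {G : Over (Spec (CommRingCat.of A))} [GrpObj G] [QuasiCompact G.hom] [LocallyOfFiniteType G.hom]
    {q : ℕ} (hq : 1 < q) (hqu : IsUnit (q : A)) (M : ℕ → Over (Spec (CommRingCat.of A))) (grp : ∀ k, GrpObj (M k))
    (m : ∀ k, M k ⟶ G) (hm : ∀ k, IsMonHom (m k) ∧ Mono (m k) ∧ SGA3x.IsMultTypeFT (M k))
    (hcoh : ∀ j k : ℕ, j ≤ k → ∃ f : M j ⟶ M k, f ≫ m k = m j ∧ AlgGrp.IsKernel f ((𝟙 (M k) : M k ⟶ M k) ^ (q ^ j)))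
    (hgen : ∀ t s : ↥(Spec (CommRingCat.of A)), t ⤳ s → Has q m ((Spec (CommRingCat.of A)).fromSpecResidueField s) →
      Has q m ((Spec (CommRingCat.of A)).fromSpecResidueField t))
    (hs : ∃ (s : ↥(Spec (CommRingCat.of A))) (Ts : Over (Spec ((Spec (CommRingCat.of A)).residueField s))) (_ : GrpObj Ts)
      (js : Ts ⟶ Red.bc ((Spec (CommRingCat.of A)).fromSpecResidueField s) G), IsMonHom js ∧ Mono js ∧ Red.IsTorus Ts ∧
      ∀ k, ∃ g : Red.bc ((Spec (CommRingCat.of A)).fromSpecResidueField s) (M k) ⟶ Ts,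
        g ≫ js = (Over.pullback ((Spec (CommRingCat.of A)).fromSpecResidueField s)).map (m k) ∧
        AlgGrp.IsKernel g ((𝟙 Ts : Ts ⟶ Ts) ^ (q ^ k))) :
    (∃ (T : Over (Spec (CommRingCat.of A))) (_ : GrpObj T) (j : T ⟶ G), IsMonHom j ∧ Mono j ∧ Red.IsTorus T ∧
      ∀ k, ∃ g : M k ⟶ T, g ≫ j = m k ∧ AlgGrp.IsKernel g ((𝟙 T : T ⟶ T) ^ (q ^ k))) ∧
    (∀ (T₁ T₂ : Over (Spec (CommRingCat.of A))) [GrpObj T₁] [GrpObj T₂] (j₁ : T₁ ⟶ G) (j₂ : T₂ ⟶ G) [IsMonHom j₁] [Mono j₁]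
      [IsMonHom j₂] [Mono j₂], Red.IsTorus T₁ → Red.IsTorus T₂ →
      (∀ k, ∃ g : M k ⟶ T₁, g ≫ j₁ = m k ∧ AlgGrp.IsKernel g ((𝟙 T₁ : T₁ ⟶ T₁) ^ (q ^ k))) →
      (∀ k, ∃ g : M k ⟶ T₂, g ≫ j₂ = m k ∧ AlgGrp.IsKernel g ((𝟙 T₂ : T₂ ⟶ T₂) ^ (q ^ k))) →
      ∃ φ : T₁ ≅ T₂, φ.hom ≫ j₂ = j₁) := by
  refine ⟨?_, fun T₁ T₂ _ _ j₁ j₂ _ _ _ _ h₁ h₂ h₃ h₄ => K207.SubTor.exists_iso hq j₁ j₂ h₁ h₂ M m h₃ h₄⟩
  obtain ⟨s, hs⟩ := hs
  have h0 : Has q m ((Spec (CommRingCat.of A)).fromSpecResidueField s) := (has_iff (fun k => (hm k).1) _).2 hs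
  have hn : NoetherianSpace ↥(Spec (CommRingCat.of A)) := inferInstanceAs (NoetherianSpace (PrimeSpectrum A))
  have hqs : QuasiSober ↥(Spec (CommRingCat.of A)) := inferInstanceAs (QuasiSober (PrimeSpectrum A))
  exact K207.Main.exists_torus hq hqu M grp m hm hcoh fun y =>
    all_of_one (fun y => Has q m ((Spec (CommRingCat.of A)).fromSpecResidueField y))
      (fun t s hts h => specializes hq hqu M grp m hm (fun j k hjk => (hcoh j k hjk).imp fun f hf => hf.1) hts h) hgen h0 y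

end K207.Connect
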