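import Groth.Agent.SGA3x.K211.RedGlue
import Groth.Agent.SGA3x.K18.StrLoc
import Groth.Agent.RedSub.K687.GenExt

/-!
# Homomorphisms from `D(M)` over a base and families: compatibility with base change
-/

set_option autoImplicit false
universe u
open CategoryTheory MonoidalCategory CartesianMonoidalCategory MonObj GrpObj AlgebraicGeometry Limits

namespace K207.MainDict

open Groth.Agent Groth.Agent.Sga3B Groth.Agent.Sga3B.DSPts Groth.Agent.Sga3B.InfConjFam Groth.Agent.Sga3B.RedIso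
  K211.Fam

variable {S S' S'' : Scheme.{u}} {M : Type} [AddCommGroup M] {G : Over S} [GrpObj G]

lemma tr_und (v : S' ⟶ S) (M : Type) [AddCommGroup M] :
    tr v (und (TorusAlgClosed.dsBcIso v M)).hom = (bcEquiv v _ (Red.DS S M)).symm (𝟙 _) := by
  have h1 := K687.GenExt.tr_dsBcIso v M _ (𝟙 _)
  rw [Category.id_comp] at h1
  exact h1

/-- The homomorphism attached to a constant family. -/
theorem toH_fst (v : S' ⟶ S) (χ : Red.DS S M ⟶ G) :
    (und (TorusAlgClosed.dsBcIso v M)).hom ≫ toH v (fst _ _ ≫ χ) = (Over.pullback v).map χ := by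
  rw [comp_toH, lift_fst_assoc, tr_und]
  have h3 := BcPts.bcEquiv_comp v ((BcPts.bcEquiv v _ (Red.DS S M)).symm (𝟙 _)) χ
  rw [Equiv.apply_symm_apply, Category.id_comp] at h3
  exact h3

lemma bcEquiv_bcComp (w : S'' ⟶ S') (v : S' ⟶ S) {X : Over S''} (z : (Over.map (w ≫ v)).obj X ⟶ G)
    (z' : (Over.map v).obj ((Over.map w).obj X) ⟶ G) (h : z.left = z'.left) :
    bcEquiv (w ≫ v) X G z ≫ (und (BcIso.bcCompIso w v G)).hom =
      bcEquiv w X (Red.bc v G) (bcEquiv v _ G z') := by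
  apply (bcEquiv w X (Red.bc v G)).symm.injective
  rw [MulEquiv.symm_apply_apply]
  apply (bcEquiv v _ G).symm.injective
  rw [MulEquiv.symm_apply_apply]
  ext1
  rw [bcEquiv_symm_left, bcEquiv_symm_left, ← h, Over.comp_left, Category.assoc, Category.assoc]
  have h1 := SplitBc264.bcCompIso_left w v G
  have h2 : (und (BcIso.bcCompIso w v G)).hom.left ≫ pullback.fst (Red.bc v G).hom w ≫ pullback.fst G.hom v =
    pullback.fst G.hom (w ≫ v) := h1
  rw [h2, bcEquiv_fst]

/-- Passing from one base to another. -/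
noncomputable def kap (w : S'' ⟶ S') (v : S' ⟶ S) (X : Over S'') :
    (Over.map (w ≫ v)).obj X ⟶ (Over.map v).obj ((Over.map w).obj X) :=
  Over.homMk (𝟙 _) (by simp)

lemma kap_tr (w : S'' ⟶ S') (v : S' ⟶ S) {X : Over S''} (p : X ⟶ Red.DS S'' M) :
    kap w v X ≫ tr v (tr w p) = tr (w ≫ v) p := by
  unfold tr
  rw [dsEquiv_naturality, dsChar_dsEquiv]
  refine congrArg (dsEquiv ((Over.map (w ≫ v)).obj X) M) (MonoidHom.ext fun m => ?_)
  change (kap w v X).left.appTop.hom ((dsChar p : Multiplicative M →* Γ(X.left, ⊤)) m) = dsChar p m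
  have h1 : (kap w v X).left = 𝟙 X.left := rfl
  rw [h1]
  simp

lemma kap_st (w : S'' ⟶ S') (v : S' ⟶ S) (X : Over S'') :
    kap w v X ≫ st v ((Over.map w).obj X) = st (w ≫ v) X ≫ (Over.homMk w : Over.mk (w ≫ v) ⟶ Over.mk v) := by
  ext1
  simp [kap, st]

/-- **Base change of the homomorphism attached to a family.** -/
theorem map_toH (w : S'' ⟶ S') (v : S' ⟶ S) (a : Red.DS S M ⊗ Over.mk v ⟶ G) :
    (Over.pullback w).map (toH v a) = (und (TorusAlgClosed.dsBcIso w M)).hom ≫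
      toH (w ≫ v) (Red.DS S M ◁ (Over.homMk w : Over.mk (w ≫ v) ⟶ Over.mk v) ≫ a) ≫
      (und (BcIso.bcCompIso w v G)).hom := by
  have h1 : (Over.pullback w).map (toH v a) =
      bcEquiv w _ _ (tr w (und (TorusAlgClosed.dsBcIso w M)).hom ≫ toH v a) := by
    rw [tr_und]
    have h3 := BcPts.bcEquiv_comp w ((BcPts.bcEquiv w _ (Red.DS S' M)).symm (𝟙 _)) (toH v a)
    rw [Equiv.apply_symm_apply, Category.id_comp] at h3
    exact h3.symm
  rw [h1, comp_toH, ← Category.assoc, comp_toH]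
  refine (bcEquiv_bcComp w v _ _ ?_).symm
  have h2 : lift (tr (w ≫ v) (und (TorusAlgClosed.dsBcIso w M)).hom) (st (w ≫ v) _) ≫
      Red.DS S M ◁ (Over.homMk w : Over.mk (w ≫ v) ⟶ Over.mk v) ≫ a =
      kap w v _ ≫ lift (tr v (tr w (und (TorusAlgClosed.dsBcIso w M)).hom)) (st v _) ≫ a := by
    rw [comp_lift_assoc, kap_tr, kap_st, ← Category.assoc, lift_whiskerLeft]
  rw [h2]
  exact Category.id_comp _

end K207.MainDict
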