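import Groth.Agent.SGA3x.K207.MainDict
import Groth.Agent.SGA3x.K12.FibSpec
import Groth.Agent.SGA3x.K764.FibEq
import Groth.Agent.SGA3x.K21.ShNhd
import Groth.Agent.SGA3.K207.FibDesc
import Groth.Agent.Sga3.H767.FamRing

/-!
# Subtori with prescribed torsion: existence over reduced Noetherian bases, étale locally
-/

set_option autoImplicit false
universe u
open CategoryTheory MonoidalCategory CartesianMonoidalCategory MonObj GrpObj AlgebraicGeometry Limits

namespace K207.MainRed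

open Groth.Agent Groth.Agent.Sga3B Groth.Agent.Sga3B.DSPts Groth.Agent.Sga3B.InfConjFam Groth.Agent.Sga3B.RedIso
  Groth.Agent.Sga3.H767 Groth.Agent.Sga3.H767.FamLim Groth.Agent.Proet.FacM
  K211.Fam K211.TorsQ K18.StrLoc K18.TorSpec K207.MainDict IsLocalRing

theorem hom_ext_cz {κ : CommRingCat.{u}} {H : Over (Spec κ)} [GrpObj H] {q r : ℕ} (hq : 1 < q)
    {a b : Red.DS (Spec κ) (Fin r → ℤ) ⟶ H}
    (h : ∀ k, Red.DSmap (Spec κ) (cz r (q ^ k)) ≫ a = Red.DSmap (Spec κ) (cz r (q ^ k)) ≫ b) : a = b :=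
  eq_of_cz (C := κ) (G := H) hq h

section has

variable {S S' : Scheme.{u}} {q r : ℕ} {G : Over S} [GrpObj G] {u : ∀ k : ℕ, Red.DS S (Fin r → ZMod (q ^ k)) ⟶ G}

theorem has_of_hasF {v : S' ⟶ S} (h : HasF q r u v) : K211.Val.Has u (Over.mk v) := by
  obtain ⟨F, h1, -, h3⟩ := h
  have i1 : IsMonHom (und (TorusAlgClosed.dsBcIso v (Fin r → ℤ))).inv := isMonHom_und_inv _
  have i2 : IsMonHom ((und (TorusAlgClosed.dsBcIso v (Fin r → ℤ))).inv ≫ F) := inferInstance
  refine ⟨ofH v ((und (TorusAlgClosed.dsBcIso v (Fin r → ℤ))).inv ≫ F), isHomFamily_ofH _, fun k => ?_⟩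
  apply toH_injective
  rw [← DSmap_toH, toH_ofH, ← cancel_epi (und (TorusAlgClosed.dsBcIso v (Fin r → ZMod (q ^ k)))).hom, toH_fst,
    ← h3 k, ← Category.assoc, ← ds_nat, Category.assoc, Iso.hom_inv_id_assoc]

theorem has_of_field {A : Type u} [CommRing A] {G : Over (Spec (CommRingCat.of A))} [GrpObj G]
    {u : ∀ k : ℕ, Red.DS (Spec (CommRingCat.of A)) (Fin r → ZMod (q ^ k)) ⟶ G}
    (h : ∀ s, HasF q r u ((Spec (CommRingCat.of A)).fromSpecResidueField s)) (K : Type u) [Field K]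
    (v : Spec (CommRingCat.of K) ⟶ Spec (CommRingCat.of A)) : K211.Val.Has u (Over.mk v) := by
  obtain ⟨g, hg⟩ := K211.Val.exists_fac_pt v (closedPoint K)
  exact (has_of_hasF (h (v (closedPoint K)))).pull (Over.homMk g hg : Over.mk v ⟶ Over.mk _)

end has

section d

variable {S S' S'' : Scheme.{u}} {q r : ℕ} {G : Over S} [GrpObj G] {M : ℕ → Over S} [∀ k, GrpObj (M k)]
  {m : ∀ k, M k ⟶ G}

theorem d_of_family {w : S'' ⟶ S'} {v : S' ⟶ S} {d : S'' ⟶ S} (hd : w ≫ v = d)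
    (a : Red.DS S (Fin r → ℤ) ⊗ Over.mk v ⟶ G) (b : Red.DS S (Fin r → ℤ) ⊗ Over.mk d ⟶ G)
    (hab : Red.DS S (Fin r → ℤ) ◁ (Over.homMk w hd : Over.mk d ⟶ Over.mk v) ≫ a = b) (h1 : Mono (toH d b))
    (h2 : ∀ k, ∃ e : Red.DS S'' (Fin r → ZMod (q ^ k)) ≅ Red.bc d (M k),
      e.hom ≫ (Over.pullback d).map (m k) = Red.DSmap S'' (cz r (q ^ k)) ≫ toH d b) :
    K207.FibDesc.D q (toH v a) (fun k => (Over.pullback v).map (m k)) w := by
  subst hd
  have key := map_toH w v a
  rw [hab] at key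
  refine ⟨?_, fun k => ?_⟩
  · rw [key]
    infer_instance
  · obtain ⟨e, he⟩ := h2 k
    refine ⟨und (TorusAlgClosed.dsBcIso w (Fin r → ZMod (q ^ k))) ≪≫ e ≪≫ und (BcIso.bcCompIso w v (M k)), ?_⟩
    simp only [Iso.trans_hom, Category.assoc]
    rw [BcNat.comp_nat, ← Category.assoc e.hom, he, Functor.map_comp, key, ← Category.assoc ((Over.pullback w).map _),
      ds_nat]
    simp only [Category.assoc]

end d

variable {A : Type u} [CommRing A] [IsNoetherianRing A] {q : ℕ}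

theorem exists_local [IsReduced A] (hq : 1 < q) (hqu : IsUnit (q : A)) {G : Over (Spec (CommRingCat.of A))} [GrpObj G]
    [QuasiCompact G.hom] [LocallyOfFiniteType G.hom] (M : ℕ → Over (Spec (CommRingCat.of A)))
    (grp : ∀ k, GrpObj (M k)) (m : ∀ k, M k ⟶ G) (hm : ∀ k, IsMonHom (m k) ∧ Mono (m k) ∧ SGA3x.IsMultTypeFT (M k))
    (hcoh : ∀ j k : ℕ, j ≤ k → ∃ f : M j ⟶ M k, f ≫ m k = m j ∧
      AlgGrp.IsKernel f ((𝟙 (M k) : M k ⟶ M k) ^ (q ^ j)))
    (h : ∀ s : ↥(Spec (CommRingCat.of A)), Has q m ((Spec (CommRingCat.of A)).fromSpecResidueField s))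
    (x : ↥(Spec (CommRingCat.of A))) :
    ∃ (V : Scheme.{u}) (v : V ⟶ Spec (CommRingCat.of A)), Etale v ∧ x ∈ Set.range v ∧ K207.FibDesc.FD q m v := by
  obtain ⟨R, _, _, _, _, _, _, hx, hflat, hind, hred⟩ := K21.ShNhd.exists_sh A x
  have hRr : IsReduced R := hred inferInstance
  let v : Spec (CommRingCat.of R) ⟶ Spec (CommRingCat.of A) := Spec.map (CommRingCat.ofHom (algebraMap A R))
  have hqR : IsUnit (q : R) := isUnit_of_hom hqu v
  have i1 := fun k => (hm k).1
  have i2 := fun k => (hm k).2.1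
  have c2 : LocallyOfFiniteType (Red.bc v G).hom := inferInstanceAs (LocallyOfFiniteType (pullback.snd G.hom v))
  have c3 : QuasiCompact (Red.bc v G).hom := inferInstanceAs (QuasiCompact (pullback.snd G.hom v))
  obtain ⟨r, U, hU, hcohU, he, hF⟩ := exists_hasF hq hqR (G := Red.bc v G) (fun k => Red.bc v (M k)) inferInstance
    (fun k => (Over.pullback v).map (m k))
    (fun k => ⟨inferInstance, inferInstance, K18.MTDesc.isMultTypeFT_bc v (hm k).2.2⟩)
    (fun a b hab => by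
      obtain ⟨f, hf, -⟩ := hcoh a b hab
      exact ⟨(Over.pullback v).map f, by rw [← Functor.map_comp, hf]⟩)
    (fun s => Has.square (v.SpecMap_residueFieldMap_fromSpecResidueField s).symm (h (v s)))
  obtain ⟨Φ, hΦ, hΦu⟩ := K211.RedGlue.exists_hom hq hqR hU hcohU (has_of_field hF)
  have hΦm : Mono Φ := by
    refine K207.FibDesc.mono_of_fibres fun s => ?_
    obtain ⟨F, hF1, hF2, hF3⟩ := hF s
    have h4 : F = (Over.pullback ((Spec (CommRingCat.of R)).fromSpecResidueField s)).map Φ := by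
      rw [← cancel_epi (und (TorusAlgClosed.dsBcIso ((Spec (CommRingCat.of R)).fromSpecResidueField s)
        (Fin r → ℤ))).inv]
      refine hom_ext_cz hq fun k => ?_
      rw [← Category.assoc, ← ds_nat_inv, Category.assoc, hF3, ← Category.assoc, ← ds_nat_inv, Category.assoc,
        ← Functor.map_comp, hΦu]
    rw [← h4]
    exact hF2
  -- spreading out
  have hGp : LocallyOfFinitePresentation G.hom := LocallyOfFinitePresentation.iff_locallyOfFiniteType.2 inferInstance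
  have haff : IsAffineHom (Red.DS (Spec (CommRingCat.of A)) (Fin r → ℤ)).hom := K211.SplitTor.isAffineHom_DS r _
  obtain ⟨W, _, _, b, a₁, hW, ha₁, hab⟩ := FamRing.exists_of_isInd (Z := Red.DS (Spec (CommRingCat.of A)) (Fin r → ℤ))
    hind (ofH v Φ) (isHomFamily_ofH Φ)
  have hWe : Algebra.Etale A W := hW
  obtain ⟨W', _, _, hW', β, b', hbb', hmin⟩ := K21.ShNhd.exists_shrink A R W b
  let w : Spec (CommRingCat.of W') ⟶ Spec (CommRingCat.of A) := Spec.map (CommRingCat.ofHom (algebraMap A W'))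
  let ρ : Spec (CommRingCat.of R) ⟶ Spec (CommRingCat.of W') := Spec.map (CommRingCat.ofHom b'.toRingHom)
  have hρw : ρ ≫ w = v := Over.w (spMap b')
  have hq' : IsUnit (q : W') := isUnit_of_hom hqu w
  have hWn : IsNoetherianRing W' := Algebra.FiniteType.isNoetherianRing A W'
  have hwe : Etale w := (HasRingHomProperty.Spec_iff (P := @AlgebraicGeometry.Etale)).2 (RingHom.etale_algebraMap.2 hW')
  have hWr : IsReduced W' := S9407.result A W'
  let a₂ : Red.DS (Spec (CommRingCat.of A)) (Fin r → ℤ) ⊗ Over.mk w ⟶ G := Red.DS _ (Fin r → ℤ) ◁ spMap β ≫ a₁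
  have ha₂ : AutFam.IsHomFamily _ _ a₂ := IsoFam.isHomFamily_pull ha₁ _
  have hρa : Red.DS _ (Fin r → ℤ) ◁ (Over.homMk ρ hρw : Over.mk v ⟶ Over.mk w) ≫ a₂ = ofH v Φ := by
    rw [← hab]
    change _ ≫ _ ◁ _ ≫ _ = _
    rw [← Category.assoc, ← MonoidalCategory.whiskerLeft_comp]
    congr 2
    ext1
    change Spec.map _ ≫ Spec.map _ = Spec.map _
    rw [← Spec.map_comp, ← CommRingCat.ofHom_comp, ← hbb']
    rfl
  have hΨ : IsMonHom (toH w a₂) := isMonHom_toH ha₂
  have c4 : LocallyOfFiniteType (Red.bc w G).hom := inferInstanceAs (LocallyOfFiniteType (pullback.snd G.hom w))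
  have c5 : QuasiCompact (Red.bc w G).hom := inferInstanceAs (QuasiCompact (pullback.snd G.hom w))
  have hD : K207.FibDesc.D q (toH w a₂) (fun k => (Over.pullback w).map (m k)) ρ := by
    refine d_of_family hρw a₂ _ hρa (by rw [toH_ofH]; exact hΦm) fun k => ?_
    obtain ⟨e, -, he'⟩ := he k
    exact ⟨e, by rw [he', toH_ofH, hΦu]⟩
  have hmW : ∀ k, IsMonHom ((Over.pullback w).map (m k)) ∧ Mono ((Over.pullback w).map (m k)) ∧
      SGA3x.IsMultTypeFT (Red.bc w (M k)) :=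
    fun k => ⟨inferInstance, inferInstance, K18.MTDesc.isMultTypeFT_bc w (hm k).2.2⟩
  have hcohW : ∀ j k : ℕ, j ≤ k → ∃ f : Red.bc w (M j) ⟶ Red.bc w (M k),
      f ≫ (Over.pullback w).map (m k) = (Over.pullback w).map (m j) ∧
      AlgGrp.IsKernel f ((𝟙 (Red.bc w (M k)) : Red.bc w (M k) ⟶ Red.bc w (M k)) ^ (q ^ j)) := by
    intro j k hjk
    obtain ⟨f, hf, hf'⟩ := hcoh j k hjk
    exact ⟨(Over.pullback w).map f, by rw [← Functor.map_comp, hf], K207.SubTor.torsion_bc w hf'⟩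
  have hDs : ∀ s, K207.FibDesc.D q (toH w a₂) (fun k => (Over.pullback w).map (m k))
      ((Spec (CommRingCat.of W')).fromSpecResidueField s) := by
    intro s
    obtain ⟨P, hP, hPs⟩ := Ideal.exists_minimalPrimes_le (bot_le : (⊥ : Ideal W') ≤ s.asIdeal)
    obtain ⟨Q, hQ, hQP⟩ := hmin P hP
    let Qs : Spec (CommRingCat.of R) := ⟨Q, hQ⟩
    have hsp : ρ Qs ⤳ s := by
      refine (PrimeSpectrum.le_iff_specializes (ρ Qs) s).1 ?_
      change Q.comap b' ≤ s.asIdeal
      rw [hQP]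
      exact hPs
    have h5 := hD.comp ((Spec (CommRingCat.of R)).fromSpecResidueField Qs)
    rw [← ρ.SpecMap_residueFieldMap_fromSpecResidueField Qs] at h5
    have c6 := flat_fibre (ρ Qs) (Spec.map (ρ.residueFieldMap Qs))
    have c7 := surjective_fibre (ρ Qs) (Spec.map (ρ.residueFieldMap Qs))
    have h6 := K207.FibDesc.D.descend _ (fun k => (hmW k).2.1) h5
    exact K12.FibSpec.main_iso hq (fun s => K12.NormTrait.natCast_ne_zero hq' s) (toH w a₂) (fun k => Red.bc w (M k))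
      inferInstance (fun k => (Over.pullback w).map (m k)) hmW hcohW hsp h6.1 h6.2
  have hΨm : Mono (toH w a₂) := K207.FibDesc.mono_of_fibres fun s => (hDs s).1
  refine ⟨Spec (CommRingCat.of W'), w, hwe, ?_, K207.FibDesc.final (G := Red.bc w G) (Phi := toH w a₂) fun k => ?_⟩
  · refine ⟨ρ (closedPoint R), ?_⟩
    rw [← Scheme.Hom.comp_apply, hρw]
    exact hx
  · have hk0 : 0 < q ^ k := pow_pos (by omega) k
    have hne : NeZero (q ^ k) := ⟨hk0.ne'⟩
    have hn : IsUnit ((q ^ k : ℕ) : W') := by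
      rw [Nat.cast_pow]
      exact hq'.pow k
    have i3 := (hmW k).2.1
    have i4 : Mono (Red.DSmap (Spec (CommRingCat.of W')) (cz r (q ^ k))) :=
      BorSpan613.mono_DSmap _ _ (cz_surjective r (q ^ k))
    have i5 : Mono (Red.DSmap (Spec (CommRingCat.of W')) (cz r (q ^ k)) ≫ toH w a₂) := mono_comp _ _
    have hone : (𝟙 (Red.bc w (M k)) : Red.bc w (M k) ⟶ Red.bc w (M k)) ^ (q ^ k) = 1 := by
      obtain ⟨f, hf, hf'⟩ := hcohW k k le_rfl
      have h7 : f = 𝟙 _ := by rw [← cancel_mono ((Over.pullback w).map (m k)), hf, Category.id_comp]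
      have h8 := (K207.SubTor.isKernel_pow_iff.1 hf').1
      rwa [h7] at h8
    exact K764.FibEq.exists_iso hn (K21.MultLoc.isMultTypeFT_DS _ (Module.Finite.iff_addGroup_fg.1 inferInstance))
      (hmW k).2.2 (K12.FibTrait.pow_DS _ _) hone (Red.DSmap (Spec (CommRingCat.of W')) (cz r (q ^ k)) ≫ toH w a₂)
      ((Over.pullback w).map (m k)) fun s => (hDs s).2 k

end K207.MainRed
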